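import Mathlib

/-! Algebraization of quotients of adic completions whose conormal module is killed by a power of the ideal:
approximation lemmas over a completion-like extension. -/

set_option autoImplicit false

universe u

namespace Groth.AdicAlg65

open Submodule

theorem mem_smul_top_pi {R : Type*} [CommRing R] {κ : Type*} [Finite κ] (I : Ideal R) (v : κ → R) :
    v ∈ I • (⊤ : Submodule R (κ → R)) ↔ ∀ i, v i ∈ I := by
  classical
  haveI := Fintype.ofFinite κ
  constructor
  · intro h i
    induction h using Submodule.smul_induction_on' with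
    | smul r hr n _ => exact I.mul_mem_right _ hr
    | add x _ y _ hx hy => exact I.add_mem hx hy
  · intro h
    rw [pi_eq_sum_univ v]
    exact sum_mem fun i _ => Submodule.smul_mem_smul (h i) trivial

/-- `j` behaves like the map of a Noetherian ring to its completion at `I`. -/
structure Base {R Rh : Type u} [CommRing R] [CommRing Rh] (j : R →+* Rh) (I : Ideal R) : Prop where
  surj : ∀ n x, ∃ r, x - j r ∈ I.map j ^ n
  inj : ∀ n r, j r ∈ I.map j ^ n → r ∈ I ^ n
  jac : I.map j ≤ Ideal.jacobson ⊥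

namespace Base

variable {R Rh : Type u} [CommRing R] [CommRing Rh] [IsNoetherianRing R] [IsNoetherianRing Rh]
  {j : R →+* Rh} {I : Ideal R} (h : Base j I)
include h

/-- Approximation of solutions of homogeneous linear equations. -/
theorem approx {ι κ : Type} [Fintype ι] [Fintype κ] (A : Matrix ι κ R) (y : κ → Rh)
    (hy : (A.map j).mulVec y = 0) (L : ℕ) :
    ∃ d : κ → R, A.mulVec d = 0 ∧ (y - j ∘ d) ∈ I.map j ^ L • LinearMap.ker (A.map j).mulVecLin := by
  classical
  obtain ⟨k, hk⟩ := Ideal.exists_pow_inf_eq_pow_smul I (LinearMap.range A.mulVecLin)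
  obtain ⟨k', hk'⟩ := Ideal.exists_pow_inf_eq_pow_smul (I.map j) (LinearMap.ker (A.map j).mulVecLin)
  let M := L + k + k'
  choose d hd using fun q => h.surj M (y q)
  have hAd : A.mulVec d ∈ I ^ M • (⊤ : Submodule R (ι → R)) ⊓ LinearMap.range A.mulVecLin := by
    refine ⟨(mem_smul_top_pi _ _).mpr fun i => h.inj _ _ ?_, d, rfl⟩
    have h1 : j (A.mulVec d i) = ((A.map j).mulVec y) i - ∑ q, j (A i q) * (y q - j (d q)) := by
      simp [Matrix.mulVec, dotProduct, mul_sub, Finset.sum_sub_distrib]
    rw [h1, hy, Pi.zero_apply, zero_sub]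
    exact neg_mem (sum_mem fun q _ => Ideal.mul_mem_left _ _ (hd q))
  rw [hk M (by omega)] at hAd
  have h2 : A.mulVec d ∈ I ^ (M - k) • LinearMap.range A.mulVecLin := Submodule.smul_mono le_rfl inf_le_right hAd
  rw [LinearMap.range_eq_map, ← Submodule.map_smul''] at h2
  obtain ⟨e, he, hAe⟩ := h2
  rw [SetLike.mem_coe, mem_smul_top_pi] at he
  refine ⟨d - e, by rw [Matrix.mulVec_sub, ← hAe, Matrix.mulVecLin_apply, sub_self], ?_⟩
  have hmem : (y - j ∘ (d - e)) ∈ I.map j ^ (M - k) • (⊤ : Submodule Rh (κ → Rh)) ⊓ LinearMap.ker (A.map j).mulVecLin := by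
    refine ⟨(mem_smul_top_pi _ _).mpr fun q => ?_, ?_⟩
    · have h3 : y q - j (d q) ∈ I.map j ^ (M - k) := Ideal.pow_le_pow_right (Nat.sub_le _ _) (hd q)
      have h4 : j (e q) ∈ I.map j ^ (M - k) := by rw [← Ideal.map_pow]; exact Ideal.mem_map_of_mem j (he q)
      simpa [sub_sub_eq_add_sub, add_sub_right_comm] using add_mem h3 h4
    · rw [SetLike.mem_coe, LinearMap.mem_ker, Matrix.mulVecLin_apply, Matrix.mulVec_sub, hy, zero_sub, neg_eq_zero]
      funext i
      have h5 : (A.mulVec (d - e)) i = 0 := by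
        rw [Matrix.mulVec_sub, ← hAe, Matrix.mulVecLin_apply, sub_self]; rfl
      rw [← RingHom.map_mulVec, h5, map_zero]; rfl
  rw [hk' (M - k) (by omega)] at hmem
  exact Submodule.smul_mono (Ideal.pow_le_pow_right (by omega)) inf_le_right hmem

/-- Elements killed by a power of the ideal come from below. -/
theorem mem_range_of_killed (t : Rh) (m : ℕ) (ht : ∀ a ∈ I ^ m, j a * t = 0) : t ∈ j.range := by
  obtain ⟨r, a, ha⟩ := Submodule.fg_iff_exists_fin_generating_family.1 (I ^ m).fg_of_isNoetherianRing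
  let A : Matrix (Fin r) (Fin 1) R := Matrix.of fun l _ => a l
  obtain ⟨d, -, hd⟩ := h.approx A (fun _ => t) (by
    funext l
    simpa [A, Matrix.mulVec, dotProduct] using ht (a l) (ha ▸ Submodule.subset_span ⟨l, rfl⟩)) m
  suffices ((fun _ : Fin 1 => t) - j ∘ d) = 0 from ⟨d 0, (sub_eq_zero.mp (congrFun this 0)).symm⟩
  generalize (fun _ : Fin 1 => t) - j ∘ d = v at hd ⊢
  induction hd using Submodule.smul_induction_on' with
  | smul i hi z hz =>
    funext q
    show i * z q = 0
    rw [← Ideal.map_pow] at hi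
    induction hi using Submodule.span_induction with
    | mem x hx =>
      obtain ⟨b, hb, rfl⟩ := hx
      rw [SetLike.mem_coe, ← ha] at hb
      induction hb using Submodule.span_induction with
      | mem b hb =>
        obtain ⟨l, rfl⟩ := hb
        have := congrFun (LinearMap.mem_ker.mp hz) l
        simpa [A, Matrix.mulVec, dotProduct, Subsingleton.elim q 0] using this
      | zero => simp
      | add b c _ _ hb hc => rw [map_add, add_mul, hb, hc, add_zero]
      | smul c b _ hb => rw [smul_eq_mul, map_mul, mul_assoc, hb, mul_zero]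
    | zero => simp
    | add b c _ _ hb hc => rw [add_mul, hb, hc, add_zero]
    | smul c b _ hb => rw [smul_eq_mul, mul_assoc, hb, mul_zero]
  | add x _ y _ hx hy => rw [hx, hy, add_zero]

/-- The cokernel of `j` has no torsion for the powers of the ideal. -/
theorem mem_range_of_smul_mem (b : Rh) (m : ℕ) (hb : ∀ a ∈ I ^ m, j a * b ∈ j.range) : b ∈ j.range := by
  obtain ⟨r, a, ha⟩ := Submodule.fg_iff_exists_fin_generating_family.1 (I ^ m).fg_of_isNoetherianRing
  choose w hw using fun l : Fin r => hb (a l) (ha ▸ Submodule.subset_span ⟨l, rfl⟩)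
  let N : Submodule R (Fin r → R) := LinearMap.range (LinearMap.toSpanSingleton R (Fin r → R) a)
  have hmem : N.mkQ w ∈ (⨅ n : ℕ, I ^ n • ⊤ : Submodule R ((Fin r → R) ⧸ N)) := by
    rw [Submodule.mem_iInf]
    intro n
    obtain ⟨d, hd⟩ := h.surj n b
    have h1 : N.mkQ w = N.mkQ (w - d • a) := by
      have : N.mkQ (d • a) = 0 := (Submodule.Quotient.mk_eq_zero N).mpr ⟨d, rfl⟩
      rw [map_sub, this, sub_zero]
    rw [h1, ← Submodule.range_mkQ, LinearMap.range_eq_map, ← Submodule.map_smul'']
    refine Submodule.mem_map_of_mem ((mem_smul_top_pi _ _).mpr fun l => h.inj _ _ ?_)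
    rw [Pi.sub_apply, Pi.smul_apply, smul_eq_mul, map_sub, hw, map_mul, mul_comm (j d), ← mul_sub]
    exact Ideal.mul_mem_left _ _ hd
  obtain ⟨⟨i, hi⟩, hiw⟩ := (I.mem_iInf_smul_pow_eq_bot_iff _).mp hmem
  obtain ⟨d, hd⟩ : w - i • w ∈ N := (Submodule.Quotient.mk_eq_zero N).mp (by
    show N.mkQ (w - i • w) = 0
    rw [map_sub, map_smul, hiw, sub_self])
  obtain ⟨c, hc⟩ : (1 - j i) * b - j d ∈ j.range := by
    refine h.mem_range_of_killed _ m fun x hx => ?_
    rw [← ha] at hx
    induction hx using Submodule.span_induction with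
    | mem x hx =>
      obtain ⟨l, rfl⟩ := hx
      have hd' : d * a l = w l - i * w l := congrFun hd l
      have := congrArg j hd'
      rw [map_mul, map_sub, map_mul, hw] at this
      linear_combination -this
    | zero => simp
    | add b c _ _ hb hc => rw [map_add, add_mul, hb, hc, add_zero]
    | smul c b _ hb => rw [smul_eq_mul, map_mul, mul_assoc, hb, mul_zero]
  obtain ⟨u, hu⟩ : ∃ u, u * (1 - i) - 1 ∈ I ^ m := by
    refine ⟨∑ q ∈ Finset.range m, i ^ q, ?_⟩
    rw [geom_sum_mul_neg, sub_sub_cancel_left]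
    exact neg_mem (Ideal.pow_mem_pow hi m)
  obtain ⟨v, hv⟩ := hb _ hu
  refine ⟨u * (c + d) - v, ?_⟩
  rw [map_sub, map_mul, map_add, hv, hc]
  simp only [map_sub, map_mul, map_one]
  ring

/-- Solutions of the Koszul relations split into a part from below and a trivial part. -/
theorem koszul {r : ℕ} (a : Fin r → R) (m : ℕ) (ha : Ideal.span (Set.range a) = I ^ m) (y : Fin r → Rh)
    (hy : ∀ l q, j (a l) * y q = j (a q) * y l) :
    ∃ (d : Fin r → R) (b : Rh), ∀ l, y l = j (d l) + j (a l) * b := by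
  let A : Matrix (Fin r × Fin r) (Fin r) R :=
    Matrix.of fun lq s => (if s = lq.2 then a lq.1 else 0) - (if s = lq.1 then a lq.2 else 0)
  have hA : ∀ (z : Fin r → Rh) lq, (A.map j).mulVec z lq = j (a lq.1) * z lq.2 - j (a lq.2) * z lq.1 := fun z lq => by
    simp [A, Matrix.mulVec, dotProduct, sub_mul, apply_ite j, Finset.sum_sub_distrib]
  obtain ⟨d, -, hd⟩ := h.approx A y (funext fun lq => by rw [hA, hy, sub_self]; rfl) m
  suffices ∃ b : Rh, ∀ l, (y - j ∘ d) l = j (a l) * b by
    obtain ⟨b, hb⟩ := this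
    exact ⟨d, b, fun l => by rw [← hb]; simp⟩
  generalize y - j ∘ d = v at hd ⊢
  induction hd using Submodule.smul_induction_on' with
  | smul i hi z hz =>
    rw [← Ideal.map_pow, ← ha, Ideal.map_span, ← Set.range_comp] at hi
    obtain ⟨c, rfl⟩ := Ideal.mem_span_range_iff_exists_fun.mp hi
    refine ⟨∑ q, c q * z q, fun l => ?_⟩
    rw [Pi.smul_apply, smul_eq_mul, Finset.sum_mul, Finset.mul_sum]
    refine Finset.sum_congr rfl fun q _ => ?_
    have h1 := congrFun (LinearMap.mem_ker.mp hz) (q, l)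
    rw [Matrix.mulVecLin_apply, hA, Pi.zero_apply, sub_eq_zero] at h1
    simp only [Function.comp_apply] at h1 ⊢
    linear_combination c q * h1
  | add x _ y _ hx hy =>
    obtain ⟨b, hb⟩ := hx
    obtain ⟨c, hc⟩ := hy
    exact ⟨b + c, fun l => by rw [Pi.add_apply, hb, hc, mul_add]⟩

end Base

end Groth.AdicAlg65
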