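import Groth.Agent.AdicAlg65.Split
import Groth.Agent.AdicLinTop.CompletionQuot
import Groth.Agent.ArtfunDeform.Completion

/-! Algebraization: a quotient of an adic completion with conormal module killed by a power of the ideal is
the completion of a finite type algebra. -/

set_option autoImplicit false

universe u

namespace Groth.AdicAlg65

open Polynomial in
theorem exists_pow_mem_sup_annihilator {S : Type u} [CommRing S] [IsNoetherianRing S] (J : Ideal S) (x : S)
    (hx : ∀ y ∈ J, x * y ∈ J ^ 2) : ∃ m : ℕ, x ^ m ∈ J ⊔ Submodule.annihilator J := by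
  let f : Module.End S J := x • LinearMap.id
  have hf : LinearMap.range f ≤ J • (⊤ : Submodule S J) := by
    rintro _ ⟨y, rfl⟩
    rw [Submodule.mem_smul_top_iff]
    show x * (y : S) ∈ J • J
    rw [Ideal.smul_eq_mul, ← sq]
    exact hx y y.2
  obtain ⟨p, hp, -, hcoeff, hev⟩ :=
    LinearMap.exists_monic_and_natDegree_eq_and_coeff_mem_pow_and_aeval_eq_zero S f J hf
  have hann : p.eval x ∈ Submodule.annihilator J := by
    rw [Submodule.mem_annihilator]
    intro y hy
    have hpow : ∀ i, (f ^ i) ⟨y, hy⟩ = x ^ i • (⟨y, hy⟩ : J) := fun i => by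
      induction i with
      | zero => simp
      | succ i ih => rw [pow_succ', Module.End.mul_apply, ih]; simp [f, smul_smul, pow_succ, mul_comm, mul_left_comm]
    have h1 : (aeval f p) ⟨y, hy⟩ = p.eval x • (⟨y, hy⟩ : J) := by
      rw [aeval_eq_sum_range, eval_eq_sum_range, LinearMap.sum_apply, Finset.sum_smul]
      refine Finset.sum_congr rfl fun i _ => ?_
      rw [LinearMap.smul_apply, hpow, smul_smul]
    rw [hev, LinearMap.zero_apply] at h1
    exact (congrArg Subtype.val h1).symm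
  refine ⟨p.natDegree, ?_⟩
  have hlow : p.eval x - x ^ p.natDegree ∈ J := by
    rw [eval_eq_sum_range, Finset.sum_range_succ, show p.coeff p.natDegree = 1 from hp, one_mul, add_sub_cancel_right]
    refine sum_mem fun i hi => Ideal.mul_mem_right _ _ (Ideal.pow_le_self ?_ (hcoeff i))
    rw [Finset.mem_range] at hi
    omega
  rw [← sub_sub_cancel (p.eval x) (x ^ p.natDegree)]
  exact sub_mem (Submodule.mem_sup_right hann) (Submodule.mem_sup_left hlow)

theorem bijective_quotientMap {D C : Type u} [CommRing D] [CommRing C] (g : D →+* C) (J : Ideal D) (J' : Ideal C)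
    (hJ : J.map g = J') (n : ℕ) (hs : ∀ c, ∃ x, c - g x ∈ J' ^ n) (hi : ∀ x, g x ∈ J' ^ n → x ∈ J ^ n) :
    ∃ e : D ⧸ J ^ n ≃+* C ⧸ J' ^ n, ∀ x, e (Ideal.Quotient.mk _ x) = Ideal.Quotient.mk _ (g x) := by
  have hle : J ^ n ≤ (J' ^ n).comap g := by
    rw [← Ideal.map_le_iff_le_comap, Ideal.map_pow, hJ]
  refine ⟨RingEquiv.ofBijective (Ideal.quotientMap (J' ^ n) g hle) ⟨?_, ?_⟩, fun x => rfl⟩
  · exact Ideal.quotientMap_injective' fun x hx => hi x hx
  · intro c
    obtain ⟨c, rfl⟩ := Ideal.Quotient.mk_surjective c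
    obtain ⟨x, hx⟩ := hs c
    exact ⟨Ideal.Quotient.mk _ x, (Ideal.Quotient.eq.mpr hx).symm⟩

theorem exists_equiv_completion {Rh D C : Type u} [CommRing Rh] [CommRing D] [CommRing C] [IsNoetherianRing Rh]
    (I' : Ideal Rh) [IsAdicComplete I' Rh] (π : Rh →+* C) (hπ : Function.Surjective π)
    (g : D →+* C) (J : Ideal D) (hJ : J.map g = I'.map π)
    (hs : ∀ n c, ∃ x, c - g x ∈ I'.map π ^ n) (hi : ∀ n x, g x ∈ I'.map π ^ n → x ∈ J ^ n) :
    ∃ e : C ≃+* AdicCompletion J D, ∀ x, e (g x) = algebraMap D (AdicCompletion J D) x := by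
  choose q hq using fun n => bijective_quotientMap g J (I'.map π) hJ n (hs n) (hi n)
  let f : (n : ℕ) → C →+* D ⧸ J ^ n := fun n => (q n).symm.toRingHom.comp (Ideal.Quotient.mk _)
  have hf : ∀ n x, f n (g x) = Ideal.Quotient.mk _ x := fun n x => by
    show (q n).symm (Ideal.Quotient.mk _ (g x)) = _
    rw [← hq, RingEquiv.symm_apply_apply]
  have hf0 : ∀ n c, f n c = 0 → c ∈ I'.map π ^ n := fun n c h => by
    have h' : (q n).symm (Ideal.Quotient.mk _ c) = 0 := h
    rwa [map_eq_zero_iff _ (q n).symm.injective, Ideal.Quotient.eq_zero_iff_mem] at h'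
  have hcompat : ∀ {m n : ℕ} (hle : m ≤ n), (Ideal.Quotient.factorPow J hle).comp (f n) = f m := fun {m n} hle => by
    ext c
    obtain ⟨x, hx⟩ := hs n c
    have e1 : f n c = f n (g x) := sub_eq_zero.mp (by
      rw [← map_sub]
      show (q n).symm (Ideal.Quotient.mk _ (c - g x)) = 0
      rw [Ideal.Quotient.eq_zero_iff_mem.mpr hx, map_zero])
    have e2 : f m c = f m (g x) := sub_eq_zero.mp (by
      rw [← map_sub]
      show (q m).symm (Ideal.Quotient.mk _ (c - g x)) = 0
      rw [Ideal.Quotient.eq_zero_iff_mem.mpr (Ideal.pow_le_pow_right hle hx), map_zero])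
    rw [RingHom.comp_apply, e1, e2, hf, hf]
    rfl
  let e0 := AdicCompletion.liftRingHom J f hcompat
  refine ⟨RingEquiv.ofBijective e0 ⟨?_, ?_⟩, fun x => AdicCompletion.ext_evalₐ fun n => ?_⟩
  · rw [injective_iff_map_eq_zero]
    intro c hc
    obtain ⟨b, rfl⟩ := hπ c
    have hmem : ∀ n, π b ∈ I'.map π ^ n := fun n => hf0 n _ (by
      rw [← AdicCompletion.evalₐ_liftRingHom J f hcompat n (π b)]
      show AdicCompletion.evalₐ J n (e0 (π b)) = 0
      rw [hc, map_zero])
    letI : Algebra Rh C := π.toAlgebra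
    haveI : Module.Finite Rh C := Module.Finite.of_surjective (Algebra.linearMap Rh C) hπ
    have h1 : π b ∈ (⨅ n : ℕ, I' ^ n • ⊤ : Submodule Rh C) := by
      rw [Submodule.mem_iInf]
      intro n
      rw [Ideal.smul_top_eq_map, Submodule.restrictScalars_mem, Ideal.map_pow]
      exact hmem n
    rw [Ideal.iInf_pow_smul_eq_bot_of_le_jacobson I' (IsAdicComplete.le_jacobson_bot I'), Submodule.mem_bot] at h1
    exact h1
  · intro z
    choose d hd using fun n => Ideal.Quotient.mk_surjective (AdicCompletion.evalₐ J n z)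
    have hcompd : ∀ n, d (n + 1) - d n ∈ J ^ n := fun n => by
      refine Ideal.Quotient.eq.mp ?_
      show Ideal.Quotient.factorPow J n.le_succ (Ideal.Quotient.mk _ (d (n + 1))) = Ideal.Quotient.mk _ (d n)
      rw [hd, hd]
      obtain ⟨c, rfl⟩ := AdicCompletion.mk_surjective J D z
      rw [AdicCompletion.evalₐ_mk, AdicCompletion.evalₐ_mk, Ideal.Quotient.factor_mk, Ideal.Quotient.eq]
      simpa [SModEq.sub_mem] using (c.2 n.le_succ).symm
    have hstep : ∀ n (u : Rh), g (d n) - π u ∈ I'.map π ^ n →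
        ∃ u', u' - u ∈ I' ^ n ∧ g (d (n + 1)) - π u' ∈ I'.map π ^ (n + 1) := fun n u hu => by
      have h1 : g (d (n + 1)) - π u ∈ (I' ^ n).map π := by
        rw [Ideal.map_pow, show g (d (n + 1)) - π u = g (d (n + 1) - d n) + (g (d n) - π u) by rw [map_sub]; ring]
        refine add_mem ?_ hu
        have := Ideal.mem_map_of_mem g (hcompd n)
        rwa [Ideal.map_pow, hJ] at this
      obtain ⟨δ, hδ, hδ'⟩ := (Ideal.mem_map_iff_of_surjective π hπ).mp h1
      exact ⟨u + δ, by rwa [add_sub_cancel_left], by rw [map_add, hδ']; simp⟩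
    let seq : ∀ n, {u : Rh // g (d n) - π u ∈ I'.map π ^ n} := fun n => Nat.rec ⟨0, by simp⟩
      (fun n u => ⟨(hstep n u.1 u.2).choose, (hstep n u.1 u.2).choose_spec.2⟩) n
    have hseq : ∀ n, (seq (n + 1)).1 - (seq n).1 ∈ I' ^ n := fun n => (hstep n _ (seq n).2).choose_spec.1
    have hc : ∀ {m n}, m ≤ n → (seq m).1 ≡ (seq n).1 [SMOD (I' ^ m • ⊤ : Submodule Rh Rh)] := fun {m n} hmn => by
      rw [SModEq.sub_mem, Ideal.smul_eq_mul, Ideal.mul_top]
      induction n, hmn using Nat.le_induction with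
      | base => simp
      | succ n hmn ih =>
        rw [show (seq m).1 - (seq (n + 1)).1 = ((seq m).1 - (seq n).1) - ((seq (n + 1)).1 - (seq n).1) by ring]
        exact sub_mem ih (Ideal.pow_le_pow_right hmn (hseq n))
    obtain ⟨u, hu⟩ := IsPrecomplete.prec (inferInstance : IsPrecomplete I' Rh) hc
    refine ⟨π u, AdicCompletion.ext_evalₐ fun n => ?_⟩
    rw [AdicCompletion.evalₐ_liftRingHom, ← hd n, ← hf n]
    refine sub_eq_zero.mp ?_
    rw [← map_sub]
    show (q n).symm (Ideal.Quotient.mk _ (π u - g (d n))) = 0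
    rw [Ideal.Quotient.eq_zero_iff_mem.mpr ?_, map_zero]
    have h2 := hu n
    rw [SModEq.sub_mem, Ideal.smul_eq_mul, Ideal.mul_top] at h2
    rw [show π u - g (d n) = -(π ((seq n).1 - u)) - (g (d n) - π (seq n).1) by rw [map_sub]; ring]
    have h4 : π ((seq n).1 - u) ∈ I'.map π ^ n :=
      (Ideal.map_pow π I' n).le (Ideal.mem_map_of_mem π h2)
    exact sub_mem (neg_mem h4) (seq n).2
  · rw [RingEquiv.ofBijective_apply, AdicCompletion.evalₐ_liftRingHom, hf,
      Groth.AdicLinTop.CompletionQuot.evalₐ_algebraMap]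

theorem algebraize_over (B : Type u) [CommRing B] [IsNoetherianRing B] (IB : Ideal B) (C : Type u) [CommRing C]
    (π : AdicCompletion IB B →+* C) (hπ : Function.Surjective π) (c : ℕ)
    (hJ : IB.map (algebraMap B (AdicCompletion IB B)) ^ c * RingHom.ker π ≤ RingHom.ker π ^ 2) :
    ∃ (D : Type u) (_ : CommRing D) (_ : Algebra B D), Algebra.FiniteType B D ∧
      ∀ J' : Ideal D, J' = IB.map (algebraMap B D) → ∃ e : C ≃+* AdicCompletion J' D,
        ∀ b : B, e (π (algebraMap B _ b)) = algebraMap D _ (algebraMap B D b) := by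
  classical
  let Rh0 := AdicCompletion IB B
  haveI : IsNoetherianRing Rh0 := Groth.ArtfunDeform.isNoetherianRing_completion IB
  let j0 : B →+* Rh0 := algebraMap B Rh0
  set I' : Ideal Rh0 := IB.map j0 with hI'
  have hfg : IB.FG := IB.fg_of_isNoetherianRing
  haveI hcomp : IsAdicComplete I' Rh0 := Groth.AdicLinTop.CompletionQuot.isAdicComplete_map IB hfg
  have hker : ∀ n, RingHom.ker (AdicCompletion.evalₐ IB n).toRingHom = I' ^ n :=
    Groth.AdicLinTop.CompletionQuot.ker_evalₐ IB hfg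
  have hb0 : Base j0 IB :=
    { surj := fun n x => by
        obtain ⟨r, hr⟩ := Ideal.Quotient.mk_surjective (AdicCompletion.evalₐ IB n x)
        refine ⟨r, ?_⟩
        rw [← hI', ← hker]
        show AdicCompletion.evalₐ IB n (x - algebraMap B Rh0 r) = 0
        rw [map_sub, Groth.AdicLinTop.CompletionQuot.evalₐ_algebraMap, hr, sub_self]
      inj := fun n r hr => by
        rw [← hI', ← hker] at hr
        have hr' : AdicCompletion.evalₐ IB n (algebraMap B Rh0 r) = 0 := hr
        rwa [Groth.AdicLinTop.CompletionQuot.evalₐ_algebraMap, Ideal.Quotient.eq_zero_iff_mem] at hr'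
      jac := IsAdicComplete.le_jacobson_bot I' }
  set J := RingHom.ker π with hJdef
  let K : Ideal Rh0 := Submodule.annihilator J
  have hJI : I' ^ c * J ≤ J ^ 2 := hJ
  obtain ⟨N, hN⟩ : ∃ N, I' ^ N ≤ J ⊔ K := by
    have hrad : I' ^ c ≤ (J ⊔ K).radical := fun x hx =>
      exists_pow_mem_sup_annihilator J x fun y hy => hJI (Ideal.mul_mem_mul hx hy)
    obtain ⟨n, hn⟩ := Ideal.exists_pow_le_of_le_radical_of_fg hrad (IsNoetherian.noetherian _)
    exact ⟨c * n, by rwa [pow_mul]⟩
  let T : Ideal Rh0 := J ⊓ K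
  have hJK : ∀ x ∈ J, ∀ y ∈ K, y * x = 0 := fun x hx y hy => (Submodule.mem_annihilator.mp hy) x hx
  have hTkill : ∀ x ∈ I' ^ N, ∀ t ∈ T, x * t = 0 := fun x hx t ht => by
    obtain ⟨p, hp, q, hq, rfl⟩ := Submodule.mem_sup.mp (hN hx)
    rw [add_mul, hJK t ht.1 q hq, add_zero, mul_comm, hJK p hp t ht.2]
  have hTr : ∀ t ∈ T, t ∈ j0.range := fun t ht => hb0.mem_range_of_killed t N fun a ha =>
    hTkill _ (by rw [hI', ← Ideal.map_pow]; exact Ideal.mem_map_of_mem j0 ha) t ht
  let T₀ : Ideal B := T.comap j0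
  let R := B ⧸ T₀
  let Rh := Rh0 ⧸ T
  let j : R →+* Rh := Ideal.quotientMap T j0 le_rfl
  let IR : Ideal R := IB.map (Ideal.Quotient.mk T₀)
  have hmapI : IR.map j = I'.map (Ideal.Quotient.mk T) := by
    simp only [IR, hI', Ideal.map_map]
    rfl
  have hb : Base j IR :=
    { surj := fun n x => by
        obtain ⟨x, rfl⟩ := Ideal.Quotient.mk_surjective x
        obtain ⟨r, hr⟩ := hb0.surj n x
        refine ⟨Ideal.Quotient.mk T₀ r, ?_⟩
        rw [hmapI, ← Ideal.map_pow]
        exact (map_sub (Ideal.Quotient.mk T) x (j0 r)) ▸ Ideal.mem_map_of_mem _ hr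
      inj := fun n r hr => by
        obtain ⟨r, rfl⟩ := Ideal.Quotient.mk_surjective r
        rw [hmapI, ← Ideal.map_pow] at hr
        have hr' : Ideal.Quotient.mk T (j0 r) ∈ (I' ^ n).map (Ideal.Quotient.mk T) := hr
        obtain ⟨i, hi, hir⟩ := (Ideal.mem_map_iff_of_surjective _ Ideal.Quotient.mk_surjective).mp hr'
        have ht : j0 r - i ∈ T := Ideal.Quotient.eq.mp hir.symm
        obtain ⟨t₀, ht₀⟩ := hTr _ ht
        have h1 : r - t₀ ∈ IB ^ n := hb0.inj n _ (by rw [map_sub, ht₀, sub_sub_cancel]; exact hi)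
        have h2 : t₀ ∈ T₀ := by
          show j0 t₀ ∈ T
          rw [ht₀]; exact ht
        rw [← Ideal.map_pow]
        have h3 := Ideal.mem_map_of_mem (Ideal.Quotient.mk T₀) h1
        rwa [map_sub, Ideal.Quotient.eq_zero_iff_mem.mpr h2, sub_zero] at h3
      jac := fun x hx => by
        rw [hmapI] at hx
        obtain ⟨x, hx0, rfl⟩ := (Ideal.mem_map_iff_of_surjective _ Ideal.Quotient.mk_surjective).mp hx
        rw [Ideal.mem_jacobson_bot]
        intro y
        obtain ⟨y, rfl⟩ := Ideal.Quotient.mk_surjective y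
        rw [← map_mul, ← map_one (Ideal.Quotient.mk T), ← map_add]
        exact (Ideal.mem_jacobson_bot.mp (hb0.jac hx0) y).map _ }
  let ρ0 : Rh0 →+* C × (Rh0 ⧸ K) := π.prod (Ideal.Quotient.mk K)
  have hρ0 : ∀ x ∈ T, ρ0 x = 0 := fun x hx => Prod.ext hx.1 (Ideal.Quotient.eq_zero_iff_mem.mpr hx.2)
  let ρ : Rh →+* C × (Rh0 ⧸ K) := Ideal.Quotient.lift T ρ0 hρ0
  have hρinj : Function.Injective ρ := by
    rw [injective_iff_map_eq_zero]
    intro x hx
    obtain ⟨x, rfl⟩ := Ideal.Quotient.mk_surjective x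
    have hx' : ρ0 x = 0 := hx
    exact Ideal.Quotient.eq_zero_iff_mem.mpr
      ⟨congrArg Prod.fst hx', Ideal.Quotient.eq_zero_iff_mem.mp (congrArg Prod.snd hx')⟩
  have hidem : ∀ a ∈ IR ^ N, ρ (j a) * (1, 0) ∈ ρ.range := fun a ha => by
    rw [← Ideal.map_pow] at ha
    obtain ⟨b, hb', rfl⟩ := (Ideal.mem_map_iff_of_surjective _ Ideal.Quotient.mk_surjective).mp ha
    have hb'' : j0 b ∈ I' ^ N := by rw [hI', ← Ideal.map_pow]; exact Ideal.mem_map_of_mem j0 hb'
    obtain ⟨p, hp, q, hq, hpq⟩ := Submodule.mem_sup.mp (hN hb'')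
    refine ⟨Ideal.Quotient.mk T q, ?_⟩
    show ρ0 q = ρ0 (j0 b) * (1, 0)
    rw [← hpq]
    refine Prod.ext ?_ ?_
    · show π q = π (p + q) * 1
      rw [map_add, show π p = 0 from hp, zero_add, mul_one]
    · show Ideal.Quotient.mk K q = Ideal.Quotient.mk K (p + q) * 0
      rw [mul_zero, Ideal.Quotient.eq_zero_iff_mem.mpr hq]
  obtain ⟨D, iD, iR, hft, g, hg, hgs, hgi⟩ := hb.exists_model C (Rh0 ⧸ K) ρ hρinj
    (fun y => by
      obtain ⟨x, rfl⟩ := hπ y
      exact ⟨Ideal.Quotient.mk T x, rfl⟩)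
    (fun y => by
      obtain ⟨y, rfl⟩ := Ideal.Quotient.mk_surjective y
      exact ⟨Ideal.Quotient.mk T y, rfl⟩) N hidem
  letI := iD
  letI := iR
  letI : Algebra B D := ((algebraMap R D).comp (algebraMap B R)).toAlgebra
  haveI : IsScalarTower B R D := IsScalarTower.of_algebraMap_eq fun a => rfl
  haveI : Algebra.FiniteType B R := Algebra.FiniteType.of_surjective (Ideal.Quotient.mkₐ B T₀) Ideal.Quotient.mk_surjective
  refine ⟨D, inferInstance, inferInstance, Algebra.FiniteType.trans (S := R) inferInstance hft, fun J' hJ' => ?_⟩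
  have hIC : IR.map ((RingHom.fst C (Rh0 ⧸ K)).comp (ρ.comp j)) = I'.map π := by
    simp only [IR, hI', Ideal.map_map]
    rfl
  have hJD : J' = IR.map (algebraMap R D) := by
    rw [hJ']
    simp only [IR, Ideal.map_map]
    rfl
  have hgmap : J'.map g = I'.map π := by
    rw [hJD, Ideal.map_map, ← hIC]
    exact congrArg (fun φ => Ideal.map φ IR) (RingHom.ext hg)
  obtain ⟨e, he⟩ := exists_equiv_completion I' π hπ g J' hgmap
    (fun n y => hIC ▸ hgs n y) (fun n x hx => hJD ▸ hgi n x (hIC.symm ▸ hx))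
  refine ⟨e, fun a => ?_⟩
  rw [← he]
  congr 1
  exact (hg (algebraMap B R a)).symm

theorem algebraize (A : Type u) [CommRing A] [IsNoetherianRing A] (I : Ideal A) (B : Type u) [CommRing B]
    [Algebra A B] [Algebra.FiniteType A B] (C : Type u) [CommRing C]
    (π : AdicCompletion (Ideal.map (algebraMap A B) I) B →+* C) (hπ : Function.Surjective π) (c : ℕ)
    (hJ : Ideal.map ((algebraMap B (AdicCompletion (Ideal.map (algebraMap A B) I) B)).comp
        (algebraMap A B)) I ^ c * RingHom.ker π ≤ RingHom.ker π ^ 2) :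
    ∃ (D : Type u) (_ : CommRing D) (_ : Algebra A D), Algebra.FiniteType A D ∧
      ∃ e : C ≃+* AdicCompletion (Ideal.map (algebraMap A D) I) D,
        ∀ a : A, e (π (algebraMap B _ (algebraMap A B a))) =
          algebraMap D _ (algebraMap A D a) := by
  haveI : IsNoetherianRing B := Algebra.FiniteType.isNoetherianRing A B
  obtain ⟨D, iD, iB, hft, h⟩ := algebraize_over B (I.map (algebraMap A B)) C π hπ c (by rw [Ideal.map_map]; exact hJ)
  letI := iD
  letI := iB
  letI : Algebra A D := ((algebraMap B D).comp (algebraMap A B)).toAlgebra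
  haveI : IsScalarTower A B D := IsScalarTower.of_algebraMap_eq fun a => rfl
  obtain ⟨e, he⟩ := h (I.map (algebraMap A D)) (by rw [Ideal.map_map]; rfl)
  exact ⟨D, inferInstance, inferInstance, Algebra.FiniteType.trans (S := B) inferInstance hft, e, fun a => he _⟩

end Groth.AdicAlg65
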