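import Groth.Agent.AdicAlg65.Base

/-! If the completion maps injectively to a product C × C₂, surjectively on both factors, and the idempotent
is torsion modulo the image, then C is the completion of a finite type algebra over the ring. -/

set_option autoImplicit false

universe u

namespace Groth.AdicAlg65

namespace Base

variable {R Rh : Type u} [CommRing R] [CommRing Rh] [IsNoetherianRing R] [IsNoetherianRing Rh]
  {j : R →+* Rh} {I : Ideal R} (h : Base j I)
include h

theorem exists_model (C C₂ : Type u) [CommRing C] [CommRing C₂] (ρ : Rh →+* C × C₂)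
    (hinj : Function.Injective ρ) (h1 : Function.Surjective fun x => (ρ x).1)
    (h2 : Function.Surjective fun x => (ρ x).2) (N : ℕ)
    (hN : ∀ a ∈ I ^ N, ρ (j a) * (1, 0) ∈ ρ.range) :
    ∃ (D : Type u) (_ : CommRing D) (_ : Algebra R D), Algebra.FiniteType R D ∧ ∃ g : D →+* C,
      (∀ x, g (algebraMap R D x) = (ρ (j x)).1) ∧
      (∀ n c, ∃ x, c - g x ∈ I.map ((RingHom.fst C C₂).comp (ρ.comp j)) ^ n) ∧
      (∀ n x, g x ∈ I.map ((RingHom.fst C C₂).comp (ρ.comp j)) ^ n → x ∈ I.map (algebraMap R D) ^ n) := by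
  classical
  obtain ⟨r, a, ha⟩ := Submodule.fg_iff_exists_fin_generating_family.1 (I ^ N).fg_of_isNoetherianRing
  choose y hy using fun l : Fin r => hN (a l) (ha ▸ Submodule.subset_span ⟨l, rfl⟩)
  obtain ⟨d, b, hdb⟩ := h.koszul a N ha y fun l q => hinj (by rw [map_mul, map_mul, hy, hy]; ring)
  let e : C × C₂ := (1, 0) - ρ b
  have he : ∀ a' ∈ I ^ N, ρ (j a') * e ∈ (ρ.comp j).range := fun a' ha' => by
    rw [← ha] at ha'
    induction ha' using Submodule.span_induction with
    | mem x hx =>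
      obtain ⟨l, rfl⟩ := hx
      exact ⟨d l, by simp [e, mul_sub, ← hy, hdb, map_add, map_mul]⟩
    | zero => simp
    | add b c _ _ hb hc => rw [map_add, map_add, add_mul]; exact add_mem hb hc
    | smul c b _ hb => rw [smul_eq_mul, map_mul, map_mul, mul_assoc]; exact mul_mem ⟨c, rfl⟩ hb
  letI : Algebra R (C × C₂) := (ρ.comp j).toAlgebra
  have halg : ∀ x, algebraMap R (C × C₂) x = ρ (j x) := fun x => rfl
  let D₀ : Subalgebra R (C × C₂) := Algebra.adjoin R {e}
  haveI : Algebra.FiniteType R D₀ := D₀.fg_iff_finiteType.mp ⟨{e}, by simp [D₀]⟩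
  let IS : Ideal (C × C₂) := I.map (algebraMap R (C × C₂))
  have hmap : ∀ n (w : Rh), w ∈ I.map j ^ n → ρ w ∈ IS ^ n := fun n w hw => by
    have := Ideal.mem_map_of_mem ρ hw
    rwa [Ideal.map_pow, Ideal.map_map] at this
  -- powers of I move everything into the image
  have hbase : ∀ a' ∈ I ^ N, ∀ x : C × C₂, ρ (j a') * x ∈ ρ.range := fun a' ha' x => by
    obtain ⟨u, hu⟩ := h1 x.1
    obtain ⟨v, hv⟩ := h2 x.2
    have : ρ (j a') * x = ρ (j a') * (1, 0) * (ρ u - ρ v) + ρ (j a') * ρ v := by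
      refine Prod.ext ?_ ?_ <;> simp <;> simp_all <;> ring
    rw [this]
    exact add_mem (mul_mem (hN a' ha') (sub_mem ⟨u, rfl⟩ ⟨v, rfl⟩)) (mul_mem ⟨j a', rfl⟩ ⟨v, rfl⟩)
  have hrange : ∀ v ∈ IS ^ N, v ∈ ρ.range := fun v hv => by
    rw [← Ideal.map_pow] at hv
    suffices ∀ c, c * v ∈ ρ.range by simpa using this 1
    induction hv using Submodule.span_induction with
    | mem v hv =>
      obtain ⟨a2, ha2, rfl⟩ := hv
      exact fun c => by rw [mul_comm]; exact hbase a2 ha2 c
    | zero => simp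
    | add x y _ _ hx hy => exact fun c => by rw [mul_add]; exact add_mem (hx c) (hy c)
    | smul d v _ hv => exact fun c => by rw [smul_eq_mul, ← mul_assoc]; exact hv (c * d)
  have hdeep : ∀ q (x : C × C₂), x ∈ IS ^ (q + N) → ∃ w ∈ I.map j ^ q, ρ w = x := fun q x hx => by
    have hmul : ∀ u ∈ IS ^ q, ∀ v ∈ IS ^ N, ∃ w ∈ I.map j ^ q, ρ w = u * v := fun u hu => by
      rw [← Ideal.map_pow] at hu
      induction hu using Submodule.span_induction with
      | mem u hu =>
        obtain ⟨a1, ha1, rfl⟩ := hu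
        intro v hv
        obtain ⟨w, hw⟩ := hrange v hv
        exact ⟨j a1 * w, Ideal.mul_mem_right _ _ (by rw [← Ideal.map_pow]; exact Ideal.mem_map_of_mem j ha1),
          by rw [map_mul, hw]; rfl⟩
      | zero => exact fun v _ => ⟨0, zero_mem _, by simp⟩
      | add x y _ _ hx hy =>
        intro v hv
        obtain ⟨w, hw, e1⟩ := hx v hv
        obtain ⟨w', hw', e2⟩ := hy v hv
        exact ⟨w + w', add_mem hw hw', by rw [map_add, e1, e2, add_mul]⟩
      | smul c u _ hu =>
        intro v hv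
        obtain ⟨w, hw, e1⟩ := hu (c * v) (Ideal.mul_mem_left _ _ hv)
        exact ⟨w, hw, by rw [e1, smul_eq_mul]; ring⟩
    rw [pow_add] at hx
    induction hx using Submodule.mul_induction_on' with
    | mem_mul_mem u hu v hv => exact hmul u hu v hv
    | add x _ y _ hx hy =>
      obtain ⟨w, hw, e1⟩ := hx
      obtain ⟨w', hw', e2⟩ := hy
      exact ⟨w + w', add_mem hw hw', by rw [map_add, e1, e2]⟩
  -- the algebra is torsion modulo the image of R
  have htors : ∀ x ∈ D₀, ∃ m, ∀ a' ∈ I ^ m, ρ (j a') * x ∈ (ρ.comp j).range := fun x hx => by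
    induction hx using Algebra.adjoin_induction with
    | mem x hx => exact ⟨N, fun a' ha' => (Set.mem_singleton_iff.mp hx).symm ▸ he a' ha'⟩
    | algebraMap c => exact ⟨0, fun a' _ => mul_mem ⟨a', rfl⟩ ⟨c, rfl⟩⟩
    | add x y _ _ hx hy =>
      obtain ⟨m, hm⟩ := hx
      obtain ⟨m', hm'⟩ := hy
      exact ⟨max m m', fun a' ha' => by
        rw [mul_add]
        exact add_mem (hm _ (Ideal.pow_le_pow_right (le_max_left _ _) ha'))
          (hm' _ (Ideal.pow_le_pow_right (le_max_right _ _) ha'))⟩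
    | mul x y _ _ hx hy =>
      obtain ⟨m, hm⟩ := hx
      obtain ⟨m', hm'⟩ := hy
      refine ⟨m + m', fun a' ha' => ?_⟩
      rw [pow_add] at ha'
      induction ha' using Submodule.mul_induction_on' with
      | mem_mul_mem a1 ha1 a2 ha2 =>
        rw [map_mul, map_mul, show ρ (j a1) * ρ (j a2) * (x * y) = (ρ (j a1) * x) * (ρ (j a2) * y) by ring]
        exact mul_mem (hm a1 ha1) (hm' a2 ha2)
      | add b _ c _ hb hc => rw [map_add, map_add, add_mul]; exact add_mem hb hc
  have hsurj : ∀ n (x : C × C₂), ∃ z ∈ D₀, x - z ∈ IS ^ n := fun n x => by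
    obtain ⟨u, hu⟩ := h1 x.1
    obtain ⟨v, hv⟩ := h2 x.2
    obtain ⟨c1, hc1⟩ := h.surj n ((u - v) * b + v)
    obtain ⟨c2, hc2⟩ := h.surj n (u - v)
    refine ⟨algebraMap R _ c1 + algebraMap R _ c2 * e, add_mem (D₀.algebraMap_mem _)
      (mul_mem (D₀.algebraMap_mem _) (Algebra.subset_adjoin rfl)), ?_⟩
    have hx : x = ρ ((u - v) * b + v) + ρ (u - v) * e := by
      refine Prod.ext ?_ ?_ <;> simp [e] <;> simp_all <;> ring
    have : x - (algebraMap R _ c1 + algebraMap R _ c2 * e) =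
        ρ ((u - v) * b + v - j c1) + ρ (u - v - j c2) * e := by
      rw [halg, halg, hx]; simp only [map_sub]; ring
    rw [this]
    exact add_mem (hmap n _ hc1) (Ideal.mul_mem_right _ _ (hmap n _ hc2))
  let ID : Ideal D₀ := I.map (algebraMap R D₀)
  have hinjD : ∀ n (x : D₀), (x : C × C₂) ∈ IS ^ n → x ∈ ID ^ n := fun n x hx => by
    have key : ∀ z : C × C₂, z ∈ IS ^ n → ∃ w ∈ ID ^ n, z - (w : C × C₂) ∈ IS ^ (n + N) := fun z hz => by
      rw [← Ideal.map_pow] at hz
      induction hz using Submodule.span_induction with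
      | mem z hz =>
        obtain ⟨a1, ha1, rfl⟩ := hz
        exact ⟨algebraMap R D₀ a1, by rw [← Ideal.map_pow]; exact Ideal.mem_map_of_mem _ ha1, by simp⟩
      | zero => exact ⟨0, zero_mem _, by simp⟩
      | add z z' _ _ hz hz' =>
        obtain ⟨w, hw, e1⟩ := hz
        obtain ⟨w', hw', e2⟩ := hz'
        exact ⟨w + w', add_mem hw hw', by
          simpa [add_sub_add_comm] using add_mem e1 e2⟩
      | smul c z hz ih =>
        obtain ⟨w, hw, e1⟩ := ih
        obtain ⟨z0, hz0, e0⟩ := hsurj (n + N) c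
        refine ⟨⟨z0, hz0⟩ * w, Ideal.mul_mem_left _ _ hw, ?_⟩
        rw [smul_eq_mul, Subalgebra.coe_mul, show c * z - z0 * (w : C × C₂) = c * (z - w) + (c - z0) * w by ring]
        exact add_mem (Ideal.mul_mem_left _ _ e1) (Ideal.mul_mem_right _ _ e0)
    obtain ⟨w, hw, hxw⟩ := key _ hx
    obtain ⟨t, ht, hρt⟩ := hdeep n _ hxw
    obtain ⟨m, hm⟩ := htors _ (x - w).2
    obtain ⟨c, hc⟩ := h.mem_range_of_smul_mem t m fun a' ha' => by
      obtain ⟨c, hc⟩ := hm a' ha'
      exact ⟨c, hinj (by rw [map_mul, hρt]; exact hc)⟩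
    have hcw : algebraMap R D₀ c = x - w := Subtype.ext (by
      rw [Subalgebra.coe_algebraMap, halg, hc, hρt]; rfl)
    rw [show x = algebraMap R D₀ c + w by rw [hcw, sub_add_cancel]]
    refine add_mem ?_ hw
    rw [← Ideal.map_pow]
    exact Ideal.mem_map_of_mem _ (h.inj n c (hc ▸ ht))
  -- separate the two factors
  obtain ⟨z, hz, hz1⟩ := hsurj 1 (1, 0)
  let e₀ : D₀ := ⟨z, hz⟩
  let I1 : Ideal C := I.map ((RingHom.fst C C₂).comp (ρ.comp j))
  let I2 : Ideal C₂ := I.map ((RingHom.snd C C₂).comp (ρ.comp j))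
  have hI1 : IS.map (RingHom.fst C C₂) = I1 := Ideal.map_map _ _
  have hI2 : IS.map (RingHom.snd C C₂) = I2 := Ideal.map_map _ _
  rw [pow_one] at hz1
  have hzC : 1 - z.1 ∈ I1 := by rw [← hI1]; simpa using Ideal.mem_map_of_mem (RingHom.fst C C₂) hz1
  have hzC₂ : -z.2 ∈ I2 := by rw [← hI2]; simpa using Ideal.mem_map_of_mem (RingHom.snd C C₂) hz1
  have hunit : IsUnit (((RingHom.fst C C₂).comp D₀.val.toRingHom) e₀) := by
    let π : Rh →+* C := (RingHom.fst C C₂).comp ρ
    rw [show I1 = (I.map j).map π from (Ideal.map_map (I := I) j π).symm] at hzC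
    obtain ⟨i, hi, hiz⟩ := (Ideal.mem_map_iff_of_surjective π h1).mp hzC
    have hu : IsUnit (1 - i) := by
      have := Ideal.mem_jacobson_bot.mp (h.jac hi) (-1)
      rwa [mul_neg_one, neg_add_eq_sub] at this
    show IsUnit z.1
    rw [show z.1 = π (1 - i) by rw [map_sub, map_one, hiz, sub_sub_cancel]]
    exact hu.map π
  let D := Localization.Away e₀
  haveI : Algebra.FiniteType R D := (inferInstance : Algebra.FiniteType R D₀).trans (IsLocalization.finiteType_of_monoid_fg (Submonoid.powers e₀) D)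
  let g : D →+* C := IsLocalization.Away.lift e₀ hunit
  have hg : ∀ x : D₀, g (algebraMap D₀ D x) = (x : C × C₂).1 := fun x => IsLocalization.Away.lift_eq _ _ _
  refine ⟨D, inferInstance, inferInstance, inferInstance, g, fun x => ?_, fun n c => ?_, fun n x hx => ?_⟩
  · rw [IsScalarTower.algebraMap_apply R D₀ D, hg]; rfl
  · obtain ⟨z', hz', hd⟩ := hsurj n (c, 0)
    refine ⟨algebraMap D₀ D ⟨z', hz'⟩, ?_⟩
    rw [hg]
    have := Ideal.mem_map_of_mem (RingHom.fst C C₂) hd
    rw [Ideal.map_pow, hI1] at this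
    exact this
  · obtain ⟨x0, ⟨_, k, rfl⟩, hxs⟩ := IsLocalization.exists_mk'_eq (Submonoid.powers e₀) x
    have h3 : x * algebraMap D₀ D (e₀ ^ k) = algebraMap D₀ D x0 := by
      rw [← hxs]; exact IsLocalization.mk'_spec _ _ _
    have hmem : (↑(e₀ ^ n * x0) : C × C₂) ∈ IS ^ n := by
      have e1 : (x0 : C × C₂).1 ∈ I1 ^ n := by
        rw [← hg, ← h3, map_mul]
        exact Ideal.mul_mem_right _ _ hx
      have e2 : z.2 ^ n ∈ I2 ^ n := Ideal.pow_mem_pow (neg_mem_iff.mp hzC₂) n
      set v : C × C₂ := ↑(e₀ ^ n * x0) with hv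
      have f1 : v.1 ∈ (IS ^ n).map (RingHom.fst C C₂) := by
        rw [Ideal.map_pow, hI1, hv, Subalgebra.coe_mul, Prod.fst_mul]
        exact Ideal.mul_mem_left _ _ e1
      have f2 : v.2 ∈ (IS ^ n).map (RingHom.snd C C₂) := by
        rw [Ideal.map_pow, hI2, hv, Subalgebra.coe_mul, Prod.snd_mul, SubmonoidClass.coe_pow, Prod.pow_snd]
        exact Ideal.mul_mem_right _ _ e2
      obtain ⟨p, hp, hp1⟩ := (Ideal.mem_map_iff_of_surjective (RingHom.fst C C₂) Prod.fst_surjective).mp f1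
      obtain ⟨q, hq, hq2⟩ := (Ideal.mem_map_iff_of_surjective (RingHom.snd C C₂) Prod.snd_surjective).mp f2
      have : v = (1, 0) * p + (0, 1) * q := by
        refine Prod.ext ?_ ?_ <;> simp <;> first | exact hp1.symm | exact hq2.symm
      rw [this]
      exact add_mem (Ideal.mul_mem_left _ _ hp) (Ideal.mul_mem_left _ _ hq)
    have h4 : algebraMap D₀ D (e₀ ^ n * x0) ∈ I.map (algebraMap R D) ^ n := by
      have := Ideal.mem_map_of_mem (algebraMap D₀ D) (hinjD n _ hmem)
      rwa [Ideal.map_pow, Ideal.map_map, ← IsScalarTower.algebraMap_eq] at this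
    rw [map_mul, ← h3] at h4
    have hue : IsUnit (algebraMap D₀ D e₀) := IsLocalization.Away.algebraMap_isUnit e₀
    rw [map_pow, map_pow] at h4
    exact (Ideal.mul_unit_mem_iff_mem _ (hue.pow k)).mp ((Ideal.unit_mul_mem_iff_mem _ (hue.pow n)).mp h4)

end Base

end Groth.AdicAlg65
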